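import Mathlib
import Cfsg.Agent.S4037
import Cfsg.Agent.Lib.Helper9.S4033.Defs

/-!
# S4033 team project: package [K] (Kazarin step)

`pkgK : PkgK` : under Hypothesis X, if `s ≠ p` is the only prime `≠ p` whose part in `a` is
smaller than its part in `|G|`, then `G` has a solvable normal subgroup containing a noncentral
`p`-regular element.  Proof: `x ∈ Z₂(S) ∖ Z(S)` for a Sylow `s`-subgroup `S`; the class of the
image of `x` in `G / Z(G)` has `p`-power size; Kazarin (`S4037`).
-/

set_option autoImplicit false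

namespace Cfsg.Agent.Lib.Helper71.S4033

open Cfsg.Agent.Lib.Helper9.S4033

universe u

/-- Solvability lifts through the central quotient. -/
theorem solvable_comap_center_k {G : Type u} [Group G] (H' : Subgroup (G ⧸ Subgroup.center G))
    (h : Group.IsSolvable ↥H') :
    Group.IsSolvable ↥(H'.comap (QuotientGroup.mk' (Subgroup.center G))) := by
  let N := H'.comap (QuotientGroup.mk' (Subgroup.center G))
  let g : ↥N →* ↥H' := (QuotientGroup.mk' (Subgroup.center G)).subgroupComap H'
  let K : Subgroup ↥N := (Subgroup.center G).subgroupOf N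
  haveI : Group.IsSolvable ↥K := by
    apply Group.isSolvable_of_comm
    intro a b
    apply Subtype.ext
    apply Subtype.ext
    have ha : ((a : ↥N) : G) ∈ Subgroup.center G := a.2
    exact ((Subgroup.mem_center_iff.mp ha) _).symm
  refine Group.isSolvable_of_ker_le_range K.subtype g ?_
  intro n hn
  rw [MonoidHom.mem_ker] at hn
  have h1 : (QuotientGroup.mk' (Subgroup.center G)) (n : G) = 1 := congrArg Subtype.val hn
  have h2 : (n : G) ∈ Subgroup.center G := (QuotientGroup.eq_one_iff _).mp h1
  exact ⟨⟨n, h2⟩, rfl⟩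

theorem pkgK : PkgK.{u} := by
  intro G _ _ p a hp hap hX hex s hs hsp hlt hle
  obtain ⟨u, hu, huZ⟩ := hex
  haveI : Fact s.Prime := ⟨hs⟩
  haveI : Fact p.Prime := ⟨hp⟩
  have ha0 : a ≠ 0 := by
    rintro rfl
    rw [Nat.coprime_zero_left] at hap
    exact hp.one_lt.ne' hap
  have hG0 : Nat.card G ≠ 0 := Nat.card_pos.ne'
  obtain ⟨S⟩ : Nonempty (Sylow s G) := inferInstance
  have hScard : Nat.card (S : Subgroup G) = s ^ (Nat.card G).factorization s :=
    Sylow.card_eq_multiplicity S
  have hsp' : Nat.Coprime s p := (Nat.coprime_primes hs hp).mpr hsp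
  -- elements of `S` are `p`-regular
  have hreg : ∀ z ∈ (S : Subgroup G), (orderOf z).Coprime p := by
    intro z hz
    obtain ⟨k, hk⟩ := (IsPGroup.iff_orderOf.mp S.isPGroup') ⟨z, hz⟩
    rw [Subgroup.orderOf_mk] at hk
    rw [hk]
    exact Nat.Coprime.pow_left k hsp'
  -- `S` does not centralize a noncentral `p`-regular element
  have hF : ∀ z : G, (orderOf z).Coprime p → z ∉ Subgroup.center G →
      ¬ (S : Subgroup G) ≤ Subgroup.centralizer ({z} : Set G) := by
    intro z hz hzZ hle'
    obtain ⟨-, k, hk⟩ := hX z hz hzZ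
    have h1 : Nat.card (S : Subgroup G) ∣ p ^ k * a := by
      rw [← hk]
      exact Subgroup.card_dvd_of_le hle'
    rw [hScard] at h1
    have h2 : s ^ (Nat.card G).factorization s ∣ a :=
      (Nat.Coprime.pow_left _ (Nat.Coprime.pow_right k hsp')).dvd_of_dvd_mul_left h1
    have h3 := (hs.pow_dvd_iff_le_factorization ha0).mp h2
    omega
  -- `S` is not central
  have hSnc : ¬ (S : Subgroup G) ≤ Subgroup.center G := by
    intro h
    apply hF u hu huZ
    intro z hz
    simp only [Subgroup.mem_centralizer_iff, Set.mem_singleton_iff, forall_eq]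
    exact ((Subgroup.mem_center_iff.mp (h hz)) u)
  -- `Z(S) ≤ Z(G)`
  have hZS : ∀ z ∈ (S : Subgroup G), (∀ y ∈ (S : Subgroup G), z * y = y * z) →
      z ∈ Subgroup.center G := by
    intro z hz hcomm
    by_contra hzZ
    apply hF z (hreg z hz) hzZ
    intro y hy
    simp only [Subgroup.mem_centralizer_iff, Set.mem_singleton_iff, forall_eq]
    exact hcomm y hy
  -- an element of `Z₂(S) ∖ Z(S)`
  have hx : ∃ x ∈ (S : Subgroup G), x ∉ Subgroup.center G ∧
      ∀ y ∈ (S : Subgroup G), x * y * x⁻¹ * y⁻¹ ∈ Subgroup.center G := by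
    let T : Subgroup G := (S : Subgroup G)
    have hQp : IsPGroup s (↥T ⧸ Subgroup.center ↥T) := S.isPGroup'.to_quotient _
    haveI : Nontrivial (↥T ⧸ Subgroup.center ↥T) := by
      by_contra hnt
      rw [not_nontrivial_iff_subsingleton] at hnt
      apply hSnc
      intro z hz
      apply hZS z hz
      intro y hy
      have h1 : (QuotientGroup.mk (⟨z, hz⟩ : ↥T) : ↥T ⧸ Subgroup.center ↥T) = 1 :=
        Subsingleton.elim _ _
      rw [QuotientGroup.eq_one_iff] at h1
      have := (Subgroup.mem_center_iff.mp h1) ⟨y, hy⟩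
      exact (congrArg Subtype.val this).symm
    haveI := hQp.center_nontrivial
    obtain ⟨⟨zb, hzb⟩, hne⟩ := exists_ne (1 : Subgroup.center (↥T ⧸ Subgroup.center ↥T))
    obtain ⟨x, rfl⟩ := QuotientGroup.mk_surjective zb
    have hxT : x ∉ Subgroup.center ↥T := by
      intro h
      apply hne
      apply Subtype.ext
      exact (QuotientGroup.eq_one_iff x).mpr h
    have hxc : ∀ y : ↥T, x * y * x⁻¹ * y⁻¹ ∈ Subgroup.center ↥T := by
      intro y
      rw [← QuotientGroup.eq_one_iff]
      have h1 := (Subgroup.mem_center_iff.mp hzb) (QuotientGroup.mk y)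
      simp only [QuotientGroup.mk_mul, QuotientGroup.mk_inv]
      rw [← h1]
      simp
    refine ⟨(x : G), x.2, ?_, ?_⟩
    · intro h
      apply hxT
      rw [Subgroup.mem_center_iff]
      intro g
      exact Subtype.ext ((Subgroup.mem_center_iff.mp h) g)
    · intro y hy
      have hc := hxc ⟨y, hy⟩
      apply hZS _ (T.mul_mem (T.mul_mem (T.mul_mem x.2 hy) (T.inv_mem x.2)) (T.inv_mem hy))
      intro w hw
      have := (Subgroup.mem_center_iff.mp hc) ⟨w, hw⟩
      exact (congrArg Subtype.val this).symm
  obtain ⟨x, hxS, hxZ, hxc⟩ := hx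
  let Cs : Subgroup G := (Subgroup.centralizer
    ({(QuotientGroup.mk' (Subgroup.center G)) x} : Set (G ⧸ Subgroup.center G))).comap
      (QuotientGroup.mk' (Subgroup.center G))
  have hS_le : (S : Subgroup G) ≤ Cs := by
    intro y hy
    show (QuotientGroup.mk' (Subgroup.center G)) y ∈ Subgroup.centralizer
      ({(QuotientGroup.mk' (Subgroup.center G)) x} : Set (G ⧸ Subgroup.center G))
    simp only [Subgroup.mem_centralizer_iff, Set.mem_singleton_iff, forall_eq]
    have h1 : (QuotientGroup.mk' (Subgroup.center G)) (x * y * x⁻¹ * y⁻¹) = 1 :=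
      (QuotientGroup.eq_one_iff _).mpr (hxc y hy)
    rw [map_mul, map_mul, map_mul, map_inv, map_inv] at h1
    have h2 := congrArg (· * ((QuotientGroup.mk' (Subgroup.center G)) y *
      (QuotientGroup.mk' (Subgroup.center G)) x)) h1
    simpa [mul_assoc] using h2
  have hC_le : Subgroup.centralizer ({x} : Set G) ≤ Cs := by
    intro y hy
    show (QuotientGroup.mk' (Subgroup.center G)) y ∈ Subgroup.centralizer
      ({(QuotientGroup.mk' (Subgroup.center G)) x} : Set (G ⧸ Subgroup.center G))
    simp only [Subgroup.mem_centralizer_iff, Set.mem_singleton_iff, forall_eq] at hy ⊢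
    rw [← map_mul, ← map_mul, hy]
  obtain ⟨-, k, hk⟩ := hX x (hreg x hxS) hxZ
  have hCs0 : Cs.index ≠ 0 := Subgroup.index_ne_zero_of_finite
  have hmul : Nat.card Cs * Cs.index = Nat.card G := Subgroup.card_mul_index Cs
  have hSd : s ^ (Nat.card G).factorization s ∣ Nat.card Cs := by
    rw [← hScard]
    exact Subgroup.card_dvd_of_le hS_le
  have had : a ∣ Nat.card Cs := by
    have := Subgroup.card_dvd_of_le hC_le
    rw [hk] at this
    exact (Dvd.intro_left _ rfl).trans this
  have hidx : ∀ {r : ℕ}, r.Prime → r ∣ Cs.index → r = p := by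
    intro r hr hrd
    by_contra hrp
    by_cases hrs : r = s
    · rw [hrs] at hrd
      have h1 : s ^ ((Nat.card G).factorization s + 1) ∣ Nat.card Cs * Cs.index := by
        rw [pow_succ]
        exact Nat.mul_dvd_mul hSd hrd
      rw [hmul] at h1
      exact Nat.pow_succ_factorization_not_dvd hG0 hs h1
    · have h0 : r ^ (a.factorization r) ∣ a := Nat.ordProj_dvd a r
      have h1 : r ^ (a.factorization r + 1) ∣ Nat.card Cs * Cs.index := by
        rw [pow_succ]
        exact Nat.mul_dvd_mul (h0.trans had) hrd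
      rw [hmul] at h1
      have h2 := (hr.pow_dvd_iff_le_factorization hG0).mp h1
      have h3 := hle r hr hrp hrs
      omega
  have hidx' : Cs.index = p ^ Cs.index.primeFactorsList.length :=
    Nat.eq_prime_pow_of_unique_prime_dvd hCs0 hidx
  have hcls : (ConjClasses.mk ((QuotientGroup.mk' (Subgroup.center G)) x)).carrier.ncard
      = p ^ Cs.index.primeFactorsList.length := by
    rw [Cfsg.Agent.Lib.Helper67.ncard_conjClasses_carrier, ← hidx']
    exact (Subgroup.index_comap_of_surjective _
      (QuotientGroup.mk'_surjective (Subgroup.center G))).symm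
  have hsol : Group.IsSolvable ↥(Subgroup.normalClosure
      ({(QuotientGroup.mk' (Subgroup.center G)) x} : Set (G ⧸ Subgroup.center G))) :=
    Cfsg.Agent.S4037.result ((QuotientGroup.mk' (Subgroup.center G)) x) hp _ hcls
  refine ⟨(Subgroup.normalClosure
      ({(QuotientGroup.mk' (Subgroup.center G)) x} : Set (G ⧸ Subgroup.center G))).comap
        (QuotientGroup.mk' (Subgroup.center G)), ?_, solvable_comap_center_k _ hsol, x, ?_, hxZ,
        hreg x hxS⟩
  · exact Subgroup.normalClosure_normal.comap _
  · show (QuotientGroup.mk' (Subgroup.center G)) x ∈ Subgroup.normalClosure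
      ({(QuotientGroup.mk' (Subgroup.center G)) x} : Set (G ⧸ Subgroup.center G))
    exact Subgroup.subset_normalClosure (Set.mem_singleton _)

end Cfsg.Agent.Lib.Helper71.S4033
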